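import Groth.Prelude.Def_GLinSh
import Groth.Prelude.Def_W4bk4git07Quot
import Groth.Agent.AlgGrp79.Pullback
import Mathlib.AlgebraicGeometry.Morphisms.Separated

/-!
Orbits of a geometric quotient with separated target are closed.
-/

set_option autoImplicit false
set_option backward.isDefEq.respectTransparency.types false
set_option linter.style.haveILetI false

universe u

open CategoryTheory CategoryTheory.Limits MonoidalCategory CartesianMonoidalCategory MonObj AlgebraicGeometry
  Opposite TopologicalSpace

noncomputable section

namespace Groth.Agent.GIT36.LineBundle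

variable {S : Scheme.{u}} {G X Y : Over S} [GrpObj G] {a : AlgGrp.Action G X} {φ : X ⟶ Y}

theorem isClosed_range_psi [IsSeparated Y.hom] (h : GIT.IsGeomQuot a φ) {T : Over S} (f : T ⟶ X) :
    IsClosed (Set.range (GIT.psi a f).left) := by
  let P := pullback φ.left (f.left ≫ φ.left)
  let j : P ⟶ pullback X.hom T.hom := pullback.lift (pullback.fst _ _) (pullback.snd _ _) (by
    rw [← Over.w φ, pullback.condition_assoc, Category.assoc]
    simp [P])
  have hj : IsClosedImmersion j := by
    have he : j = pullback.mapDesc φ.left (f.left ≫ φ.left) Y.hom ≫
        (pullback.congrHom (Over.w φ) (by simp)).hom := by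
      apply pullback.hom_ext
      · refine (pullback.lift_fst _ _ _).trans ?_
        simp only [Category.assoc, pullback.mapDesc, pullback.congrHom_hom, pullback.map]
        refine Eq.symm ?_
        refine (congrArg _ (pullback.lift_fst _ _ _)).trans ?_
        refine (pullback.lift_fst_assoc _ _ _ _).trans ?_
        simp
      · refine (pullback.lift_snd _ _ _).trans ?_
        simp only [Category.assoc, pullback.mapDesc, pullback.congrHom_hom, pullback.map]
        refine Eq.symm ?_
        refine (congrArg _ (pullback.lift_snd _ _ _)).trans ?_
        refine (pullback.lift_snd_assoc _ _ _ _).trans ?_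
        simp
    rw [he]
    infer_instance
  let b : (G ⊗ T).left ⟶ P := pullback.lift ((G ◁ f) ≫ a.act).left (CartesianMonoidalCategory.snd G T).left (by
    rw [Over.comp_left, Category.assoc, h.inv.left, ← Category.assoc, ← Over.comp_left, whiskerLeft_snd,
      Over.comp_left, Category.assoc])
  have hb : b ≫ j = (GIT.psi a f).left := by
    apply pullback.hom_ext
    · simp only [Category.assoc, j, b, pullback.lift_fst]
      exact (congrArg CommaMorphism.left
        (CartesianMonoidalCategory.lift_fst ((G ◁ f) ≫ a.act) (CartesianMonoidalCategory.snd G T))).symm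
    · simp only [Category.assoc, j, b, pullback.lift_snd]
      exact (congrArg CommaMorphism.left
        (CartesianMonoidalCategory.lift_snd ((G ◁ f) ≫ a.act) (CartesianMonoidalCategory.snd G T))).symm
  let m : P ⟶ pullback φ.left φ.left :=
    pullback.lift (pullback.fst _ _) (pullback.snd _ _ ≫ f.left) (by rw [Category.assoc, pullback.condition])
  have hm : IsPullback m (pullback.snd φ.left (f.left ≫ φ.left)) (pullback.snd φ.left φ.left) f.left :=
    IsPullback.of_right (by erw [pullback.lift_fst]; exact IsPullback.of_hasPullback φ.left (f.left ≫ φ.left))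
      (pullback.lift_snd _ _ _) (IsPullback.of_hasPullback φ.left φ.left)
  have hsq : IsPullback (G ◁ f).left b (GIT.PsiY a φ h.inv) m :=
    IsPullback.of_bot
      (by
        erw [pullback.lift_snd, pullback.lift_snd]
        exact AlgGrp79.isPullback_left (AlgGrp79.whiskerLeft_isPullback G f))
      (by
        apply pullback.hom_ext
        · simp only [Category.assoc, GIT.PsiY, m, b, pullback.lift_fst]
          rfl
        · simp only [Category.assoc, GIT.PsiY, m, b, pullback.lift_snd, pullback.lift_snd_assoc]
          exact congrArg CommaMorphism.left (whiskerLeft_snd G f)) hm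
  have hsurj : Function.Surjective b := by
    intro z
    obtain ⟨g, hg⟩ := h.orbit (m z)
    obtain ⟨w, -, hw⟩ := AlgGrp79.exists_preimage_of_isPullback hsq g z hg
    exact ⟨w, hw⟩
  rw [← hb]
  have : Set.range (b ≫ j) = Set.range j := by
    rw [Scheme.Hom.comp_base, TopCat.coe_comp, Set.range_comp, hsurj.range_eq, Set.image_univ]
  rw [this]
  exact hj.isClosedEmbedding.isClosed_range

theorem closedOrbitsOn_of_isGeomQuot [IsSeparated Y.hom] (h : GIT.IsGeomQuot a φ) (U : X.left.Opens) :
    GLinSh.ClosedOrbitsOn a U :=
  fun _ _ _ _ _ f _ => (isClosed_range_psi h f).preimage continuous_subtype_val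

end Groth.Agent.GIT36.LineBundle
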