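import Groth.Prelude.Def_GLinSh
import Mathlib.AlgebraicGeometry.Morphisms.Flat
import Mathlib.RingTheory.Localization.Algebra

/-!
Fibre coordinates: locality on the base, base change, and the section at which the coordinate is `1`.
-/

set_option autoImplicit false
set_option backward.isDefEq.respectTransparency.types false
set_option linter.style.haveILetI false

universe u

open CategoryTheory CategoryTheory.Limits AlgebraicGeometry Opposite TopologicalSpace Polynomial

noncomputable section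

namespace Groth.Agent.GIT36.LineBundle

variable {V X : Scheme.{u}}

/-- Evaluation at a function on a preimage. -/
abbrev evalAt (π : V ⟶ X) {U : X.Opens} (y : Γ(V, π ⁻¹ᵁ U)) {W : X.Opens} (hW : W ≤ U) :
    Γ(X, W)[X] →+* Γ(V, π ⁻¹ᵁ W) :=
  eval₂RingHom (π.app W).hom (V.presheaf.map (homOfLE (π.preimage_mono hW)).op y)

theorem appLE_congr_hom {f g : V ⟶ X} (h : f = g) {U : X.Opens} {W : V.Opens} (e : W ≤ f ⁻¹ᵁ U)
    (e' : W ≤ g ⁻¹ᵁ U) : f.appLE U W e = g.appLE U W e' := by
  subst h; rfl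

theorem app_map (π : V ⟶ X) {W W' : X.Opens} (h : W' ≤ W) (r : Γ(X, W)) :
    V.presheaf.map (homOfLE (π.preimage_mono h)).op (π.app W r) =
      π.app W' (X.presheaf.map (homOfLE h).op r) :=
  congr($((π.naturality (homOfLE h).op).symm).hom r)

theorem evalAt_res (π : V ⟶ X) {U W W' : X.Opens} (y : Γ(V, π ⁻¹ᵁ U)) (hW : W ≤ U) (h : W' ≤ W)
    (p : Γ(X, W)[X]) :
    V.presheaf.map (homOfLE (π.preimage_mono h)).op (evalAt π y hW p) =
      evalAt π y (h.trans hW) (p.map (X.presheaf.map (homOfLE h).op).hom) := by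
  simp only [evalAt, coe_eval₂RingHom, Polynomial.eval₂_map]
  rw [← CommRingCat.hom_comp, π.naturality, CommRingCat.hom_comp, Polynomial.hom_eval₂]
  congr 1
  rw [← CommRingCat.comp_apply, ← Functor.map_comp]
  rfl

/-- Evaluation into an algebra is bijective if it is so after inverting a spanning set of the base. -/
theorem bijective_eval_of_span {A B : Type u} [CommRing A] [CommRing B] (g : A →+* B) (b : B) {s : Set A}
    (hs : Ideal.span s = ⊤) (A' B' : s → Type u) [∀ r, CommRing (A' r)] [∀ r, CommRing (B' r)]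
    [∀ r, Algebra A (A' r)] [∀ r, Algebra B (B' r)] [∀ r, IsLocalization.Away r.1 (A' r)]
    [∀ r, IsLocalization.Away (g r.1) (B' r)]
    (g' : ∀ r, A' r →+* B' r) (hg' : ∀ r a, g' r (algebraMap A (A' r) a) = algebraMap B (B' r) (g a))
    (h : ∀ r, Function.Bijective (eval₂RingHom (g' r) (algebraMap B (B' r) b))) :
    Function.Bijective (eval₂RingHom g b) := by
  have hs' : Ideal.span (Polynomial.C '' s) = (⊤ : Ideal A[X]) := by
    rw [← Ideal.map_span, hs, Ideal.map_top]
  have hmem : ∀ r : (Polynomial.C '' s : Set A[X]), ∃ c : s, Polynomial.C c.1 = r.1 := by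
    rintro ⟨_, c, hc, rfl⟩
    exact ⟨⟨c, hc⟩, rfl⟩
  choose c hc using hmem
  letI iA : ∀ r, Algebra A[X] (A' (c r))[X] := fun r => (Polynomial.mapRingHom (algebraMap A (A' (c r)))).toAlgebra
  have hA : ∀ r, IsLocalization.Away r.1 (A' (c r))[X] := by
    intro r
    have h1 := Polynomial.isLocalization (Submonoid.powers (c r).1) (A' (c r))
    rw [Submonoid.map_powers, hc r] at h1
    exact h1
  have hB : ∀ r, IsLocalization.Away (eval₂RingHom g b r.1) (B' (c r)) := by
    intro r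
    rw [show eval₂RingHom g b r.1 = g (c r).1 by rw [← hc r]; exact eval₂_C _ _]
    infer_instance
  refine bijective_of_isLocalization_of_span_eq_top hs' (fun r => (A' (c r))[X]) (fun r => B' (c r))
    (eval₂RingHom g b) fun r => ?_
  have he : IsLocalization.Away.map (A' (c r))[X] (B' (c r)) (eval₂RingHom g b) r.1 =
      eval₂RingHom (g' (c r)) (algebraMap B (B' (c r)) b) := by
    refine IsLocalization.ringHom_ext (Submonoid.powers r.1) (RingHom.ext fun p => ?_)
    rw [RingHom.comp_apply, RingHom.comp_apply, IsLocalization.Away.map, IsLocalization.map_eq,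
      coe_eval₂RingHom, coe_eval₂RingHom, Polynomial.hom_eval₂]
    change _ = eval₂ (g' (c r)) (algebraMap B (B' (c r)) b) (p.map (algebraMap A (A' (c r))))
    rw [Polynomial.eval₂_map]
    exact congrArg (fun F : A →+* B' (c r) => eval₂ F (algebraMap B (B' (c r)) b) p)
      (RingHom.ext fun a => hg' (c r) a).symm
  rw [he]
  exact h (c r)

/-- Being a fibre coordinate over an affine open can be checked on a basic cover. -/
theorem bijective_evalAt_of_cover (π : V ⟶ X) [IsAffineHom π] {U W : X.Opens} (y : Γ(V, π ⁻¹ᵁ U))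
    (hWa : IsAffineOpen W) (hW : W ≤ U)
    (h : ∀ x ∈ W, ∃ r : Γ(X, W), x ∈ X.basicOpen r ∧
      Function.Bijective (evalAt π y ((X.basicOpen_le r).trans hW))) :
    Function.Bijective (evalAt π y hW) := by
  let s : Set Γ(X, W) := {r | Function.Bijective (evalAt π y ((X.basicOpen_le r).trans hW))}
  have hs : Ideal.span s = ⊤ := by
    rw [← hWa.iSup_basicOpen_eq_self_iff]
    refine le_antisymm (iSup_le fun r => X.basicOpen_le _) fun x hx => ?_
    obtain ⟨r, hxr, hr⟩ := h x hx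
    exact Opens.mem_iSup.mpr ⟨⟨r, hr⟩, hxr⟩
  letI iA : ∀ r : s, Algebra Γ(X, W) Γ(X, X.basicOpen r.1) := fun r =>
    (X.presheaf.map (homOfLE (X.basicOpen_le r.1)).op).hom.toAlgebra
  letI iB : ∀ r : s, Algebra Γ(V, π ⁻¹ᵁ W) Γ(V, π ⁻¹ᵁ X.basicOpen r.1) := fun r =>
    (V.presheaf.map (homOfLE (π.preimage_mono (X.basicOpen_le r.1))).op).hom.toAlgebra
  have hA : ∀ r : s, IsLocalization.Away r.1 Γ(X, X.basicOpen r.1) := fun r => hWa.isLocalization_basicOpen _
  have hB : ∀ r : s, IsLocalization.Away ((π.app W).hom r.1) Γ(V, π ⁻¹ᵁ X.basicOpen r.1) := fun r =>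
    (hWa.preimage π).isLocalization_of_eq_basicOpen _ (homOfLE (π.preimage_mono (X.basicOpen_le r.1)))
      (π.preimage_basicOpen _)
  refine bijective_eval_of_span (A := Γ(X, W)) (B := Γ(V, π ⁻¹ᵁ W)) (π.app W).hom _ hs
    (fun r => Γ(X, X.basicOpen r.1)) (fun r => Γ(V, π ⁻¹ᵁ X.basicOpen r.1))
    (fun r => (π.app (X.basicOpen r.1)).hom) (fun r a => (app_map π _ a).symm) fun r => ?_
  have e1 : V.presheaf.map (homOfLE (π.preimage_mono (X.basicOpen_le r.1))).op
      (V.presheaf.map (homOfLE (π.preimage_mono hW)).op y) =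
      V.presheaf.map (homOfLE (π.preimage_mono ((X.basicOpen_le r.1).trans hW))).op y := by
    rw [← CommRingCat.comp_apply, ← Functor.map_comp]
    rfl
  change Function.Bijective (eval₂RingHom _ (V.presheaf.map _ (V.presheaf.map _ y)))
  rw [e1]
  exact r.2

section BaseChange

variable {V' X' : Scheme.{u}} {π : V ⟶ X} {π' : V' ⟶ X'} {p : V' ⟶ V} {φ : X' ⟶ X}

/-- The coordinate pulled back to a base change is a fibre coordinate. -/
theorem bijective_evalAt_baseChange [IsAffineHom π] [IsAffineHom π'] (h : IsPullback p π' π φ) {U : X.Opens}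
    (y : Γ(V, π ⁻¹ᵁ U)) (hy : ∀ W : X.Opens, IsAffineOpen W → ∀ hW : W ≤ U, Function.Bijective (evalAt π y hW))
    {U' : X'.Opens} (e : U' ≤ φ ⁻¹ᵁ U) (e' : π' ⁻¹ᵁ U' ≤ p ⁻¹ᵁ (π ⁻¹ᵁ U)) {W : X'.Opens} (hWa : IsAffineOpen W)
    (hW : W ≤ U') : Function.Bijective (evalAt π' (p.appLE _ _ e' y) hW) := by
  refine bijective_evalAt_of_cover π' _ hWa hW fun x hx => ?_
  obtain ⟨_, ⟨W₀, hW₀, rfl⟩, hxW₀, hW₀U⟩ :=
    X.isBasis_affineOpens.exists_subset_of_mem_open (show φ x ∈ U from e (hW hx)) U.2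
  obtain ⟨r, hr, hxr⟩ := hWa.exists_basicOpen_le (V := W ⊓ φ ⁻¹ᵁ W₀) ⟨x, hx, hxW₀⟩ hx
  refine ⟨r, hxr, ?_⟩
  have hle : X'.basicOpen r ≤ φ ⁻¹ᵁ W₀ := hr.trans inf_le_right
  have hp : π' ⁻¹ᵁ X'.basicOpen r = p ⁻¹ᵁ (π ⁻¹ᵁ W₀) ⊓ π' ⁻¹ᵁ X'.basicOpen r := by
    refine (inf_eq_right.mpr fun v hv => ?_).symm
    have hv' : φ (π' v) ∈ W₀ := hle hv
    have hw : π (p v) = φ (π' v) := by rw [← Scheme.Hom.comp_apply, h.w]; rfl
    change π (p v) ∈ W₀
    rw [hw]; exact hv'
  have hpush := (isIso_pushoutSection_iff ..).1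
    (isIso_pushoutSection_of_isAffineOpen h (UY := π' ⁻¹ᵁ X'.basicOpen r) hle (le_refl (π ⁻¹ᵁ W₀))
      hp hW₀ (hWa.basicOpen r) (hW₀.preimage π))
  have hb := hy W₀ hW₀ hW₀U
  let θ := RingEquiv.ofBijective _ hb
  let a : Γ(X, W₀) →+* Γ(X', X'.basicOpen r) := (φ.appLE W₀ (X'.basicOpen r) hle).hom
  let k₁ : Γ(V, π ⁻¹ᵁ W₀) ⟶ CommRingCat.of Γ(X', X'.basicOpen r)[X] :=
    CommRingCat.ofHom ((Polynomial.mapRingHom a).comp θ.symm.toRingHom)
  let k₂ : Γ(X', X'.basicOpen r) ⟶ CommRingCat.of Γ(X', X'.basicOpen r)[X] := CommRingCat.ofHom C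
  have hk : π.appLE W₀ (π ⁻¹ᵁ W₀) le_rfl ≫ k₁ = φ.appLE W₀ (X'.basicOpen r) hle ≫ k₂ := by
    refine CommRingCat.hom_ext (RingHom.ext fun c => ?_)
    have hc : θ (C c) = π.app W₀ c := eval₂_C _ _
    have : θ.symm (π.app W₀ c) = C c := by rw [← hc, RingEquiv.symm_apply_apply]
    rw [← Scheme.Hom.app_eq_appLE]
    simp only [k₁, k₂, CommRingCat.hom_comp, CommRingCat.hom_ofHom, RingHom.comp_apply,
      RingEquiv.toRingHom_eq_coe, RingEquiv.coe_toRingHom]
    rw [this, coe_mapRingHom, map_C]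
  let inv := hpush.desc k₁ k₂ hk
  have h1 : inv ≫ CommRingCat.ofHom (evalAt π' (p.appLE _ _ e' y) ((X'.basicOpen_le r).trans hW)) = 𝟙 _ := by
    apply hpush.hom_ext
    · rw [IsPushout.inl_desc_assoc]
      refine CommRingCat.hom_ext (RingHom.ext fun b => ?_)
      obtain ⟨q, rfl⟩ := θ.surjective b
      simp only [k₁, CommRingCat.hom_comp, CommRingCat.hom_ofHom, RingHom.comp_apply, RingEquiv.toRingHom_eq_coe,
        RingEquiv.coe_toRingHom, RingEquiv.symm_apply_apply, Category.comp_id]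
      change evalAt π' _ _ (q.map a) = _
      rw [RingEquiv.ofBijective_apply]
      simp only [evalAt, coe_eval₂RingHom, Polynomial.eval₂_map]
      rw [Polynomial.hom_eval₂]
      congr 1
      · rw [← CommRingCat.hom_comp]
        refine congrArg CommRingCat.Hom.hom ?_
        rw [Scheme.Hom.app_eq_appLE, Scheme.Hom.app_eq_appLE]
        first | exact hpush.w | exact hpush.w.symm
      · simp only [← CommRingCat.comp_apply, Scheme.Hom.appLE_map, Scheme.Hom.map_appLE]
    · rw [IsPushout.inr_desc_assoc]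
      refine CommRingCat.hom_ext (RingHom.ext fun c => ?_)
      rw [← Scheme.Hom.app_eq_appLE]
      simp [k₂, evalAt]
  have h2 : CommRingCat.ofHom (evalAt π' (p.appLE _ _ e' y) ((X'.basicOpen_le r).trans hW)) ≫ inv = 𝟙 _ := by
    refine CommRingCat.hom_ext (Polynomial.ringHom_ext (fun c => ?_) ?_)
    · have h' := congr($(hpush.inr_desc k₁ k₂ hk).hom c)
      have hC : evalAt π' (p.appLE _ _ e' y) ((X'.basicOpen_le r).trans hW) (C c) =
          π'.appLE (X'.basicOpen r) (π' ⁻¹ᵁ X'.basicOpen r) le_rfl c := by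
        rw [← Scheme.Hom.app_eq_appLE]; exact eval₂_C _ _
      exact (congrArg inv.hom hC).trans h'
    · have hX : θ Polynomial.X = V.presheaf.map (homOfLE (π.preimage_mono hW₀U)).op y := eval₂_X _ _
      have h' := congr($(hpush.inl_desc k₁ k₂ hk).hom (θ Polynomial.X))
      simp only [k₁, CommRingCat.hom_comp, CommRingCat.hom_ofHom, RingHom.comp_apply, RingEquiv.toRingHom_eq_coe,
        RingEquiv.coe_toRingHom, RingEquiv.symm_apply_apply, CommRingCat.hom_id, RingHom.id_apply,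
        coe_mapRingHom, Polynomial.map_X] at h' ⊢
      refine Eq.trans (congrArg _ ?_) h'
      rw [hX]
      simp only [evalAt, coe_eval₂RingHom, eval₂_X, ← CommRingCat.comp_apply, Scheme.Hom.appLE_map,
        Scheme.Hom.map_appLE]
  exact ((Iso.mk _ _ h2 h1).commRingCatIsoToRingEquiv).bijective

end BaseChange

/-- Over a point of a coordinate open there is a point of the total space at which the coordinate is invertible. -/
theorem exists_point (π : V ⟶ X) [IsAffineHom π] {U : X.Opens} (y : Γ(V, π ⁻¹ᵁ U))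
    (hy : ∀ W : X.Opens, IsAffineOpen W → ∀ hW : W ≤ U, Function.Bijective (evalAt π y hW))
    (x : X) (hx : x ∈ U) : ∃ v : V, π v = x ∧ v ∈ V.basicOpen y := by
  obtain ⟨_, ⟨W, hWa, rfl⟩, hxW, hWU⟩ := X.isBasis_affineOpens.exists_subset_of_mem_open hx U.2
  let θ := RingEquiv.ofBijective _ (hy W hWa hWU)
  let ev : Γ(V, π ⁻¹ᵁ W) ⟶ Γ(X, W) := CommRingCat.ofHom ((Polynomial.evalRingHom 1).comp θ.symm.toRingHom)
  have hVa : IsAffineOpen (π ⁻¹ᵁ W) := hWa.preimage π
  have h1 : π.app W ≫ ev = 𝟙 _ := CommRingCat.hom_ext (RingHom.ext fun c => by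
    have hc : θ (C c) = π.app W c := eval₂_C _ _
    simp [ev, ← hc])
  have h2 : (Spec.map ev ≫ hVa.fromSpec) ≫ π = hWa.fromSpec := by
    rw [Category.assoc, ← hWa.SpecMap_appLE_fromSpec π hVa le_rfl, ← Spec.map_comp_assoc,
      ← Scheme.Hom.app_eq_appLE, h1, Spec.map_id, Category.id_comp]
  obtain ⟨z, hz⟩ : ∃ z, hWa.fromSpec z = x := by
    have : x ∈ Set.range hWa.fromSpec := by rw [hWa.range_fromSpec]; exact hxW
    exact this
  refine ⟨(Spec.map ev ≫ hVa.fromSpec) z, ?_, ?_⟩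
  · rw [← Scheme.Hom.comp_apply, h2, hz]
  · have h3 : hVa.fromSpec (Spec.map ev z) ∈
        V.basicOpen (V.presheaf.map (homOfLE (π.preimage_mono hWU)).op y) := by
      have hpre := hVa.fromSpec_preimage_basicOpen (V.presheaf.map (homOfLE (π.preimage_mono hWU)).op y)
      show Spec.map ev z ∈ hVa.fromSpec ⁻¹ᵁ V.basicOpen (V.presheaf.map (homOfLE (π.preimage_mono hWU)).op y)
      rw [hpre]
      change ev (V.presheaf.map (homOfLE (π.preimage_mono hWU)).op y) ∉ z.asIdeal
      have hX : θ Polynomial.X = V.presheaf.map (homOfLE (π.preimage_mono hWU)).op y := eval₂_X _ _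
      rw [← hX]
      simp [ev]
      exact fun h => z.2.ne_top ((Ideal.eq_top_iff_one _).mpr h)
    rw [V.basicOpen_res] at h3
    exact h3.2

end Groth.Agent.GIT36.LineBundle
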