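import Groth.Agent.GIT36.LineBundle.Coord
import Groth.Agent.EGAProj74.SymAlg
import Groth.Agent.Amp73.Powers
import Groth.Agent.Mero90.Triv

/-!
The total space of an invertible module: coordinates from frames, functions from sections of powers.
-/

set_option autoImplicit false
set_option backward.isDefEq.respectTransparency.types false
set_option linter.style.haveILetI false

universe u

open CategoryTheory CategoryTheory.Limits AlgebraicGeometry Opposite TopologicalSpace Polynomial
open Groth.Agent.Var76 Groth.Agent.Var76.LineBundle Groth.Agent.Var76.ZeroScheme Groth.Agent.EGAProj74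

noncomputable section

namespace Groth.Agent.GIT36.LineBundle

variable {Y : Scheme.{u}} {M : Y.Modules} (hM : PicF.IsInvertible M)

/-- The gluing data of the symmetric algebra. -/
def symD : AffAlgData Y := symData (Mero90.isQCoh_of_isInvertible hM)

/-- The total space. -/
def tot : Scheme.{u} := (symD hM).spec

/-- The projection. -/
def totπ : tot hM ⟶ Y := (symD hM).π

instance : IsAffineHom (totπ hM) := inferInstanceAs (IsAffineHom (symD hM).π)

/-- The identification of the functions over affines with symmetric algebras. -/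
def symG : SymEquiv M (symD hM).alg where
  g U := (asIso ((symD hM).gamma U)).commRingCatIsoToRingEquiv
  gstr U r := congr($((symD hM).str_gamma U).hom r)
  gres i x := congr($((symD hM).gamma_res i).hom x)

/-- Sections as functions of degree one. -/
def inclLin : M ⟶ (symD hM).alg.toModule :=
  have : M.IsQuasicoherent := Mero90.isQCoh_of_isInvertible hM
  Classical.choose (symG hM).exists_gen

theorem symG_inclLin (U : Y.AffineZariskiSite) (m : Γ(M, U.1)) :
    (symG hM).g U ((inclLin hM).app U.1 m) = SymmetricAlgebra.ι _ _ m :=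
  have : M.IsQuasicoherent := Mero90.isQCoh_of_isInvertible hM
  Classical.choose_spec (symG hM).exists_gen U m

/-- The function of a section. -/
def coordOf {U : Y.Opens} (e : Γ(M, U)) : Γ(tot hM, totπ hM ⁻¹ᵁ U) := (inclLin hM).app U e

theorem coordOf_res {U W : Y.Opens} (h : W ≤ U) (e : Γ(M, U)) :
    (tot hM).presheaf.map (homOfLE ((totπ hM).preimage_mono h)).op (coordOf hM e) = coordOf hM (res M h e) :=
  (QC70.app_res (inclLin hM) h e).symm

theorem coordOf_smul {U : Y.Opens} (c : Γ(Y, U)) (e : Γ(M, U)) :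
    coordOf hM (c • e) = (totπ hM).app U c * coordOf hM e :=
  (inclLin hM).app_smul c e

/-- The function of a frame is a fibre coordinate. -/
theorem bijective_evalAt_coordOf {U : Y.Opens} {e : Γ(M, U)} (he : IsFrame M U e) {W : Y.Opens}
    (hW : IsAffineOpen W) (h : W ≤ U) : Function.Bijective (evalAt (totπ hM) (coordOf hM e) h) := by
  let A := Γ(Y, W)
  let e' : Γ(M, W) := res M h e
  have hb : Function.Bijective (LinearMap.toSpanSingleton A Γ(M, W) e') := by
    simpa [e', Amp73.res_self] using! (he.res h) W le_rfl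
  let φ := LinearEquiv.ofBijective _ hb
  let ψ : Γ(M, W) →ₗ[A] A[X] := (LinearMap.toSpanSingleton A A[X] Polynomial.X).comp φ.symm.toLinearMap
  have hψ : ψ e' = Polynomial.X := by
    have : φ.symm e' = 1 := by
      rw [LinearEquiv.symm_apply_eq]
      exact (LinearMap.toSpanSingleton_apply_one A _ e').symm
    simp [ψ, this]
  let F : A[X] →ₐ[A] SymmetricAlgebra A Γ(M, W) := Polynomial.aeval (SymmetricAlgebra.ι A Γ(M, W) e')
  let F' : SymmetricAlgebra A Γ(M, W) →ₐ[A] A[X] := SymmetricAlgebra.lift ψ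
  have h1 : F'.comp F = AlgHom.id A A[X] := by
    refine Polynomial.algHom_ext ?_
    simp [F, F', hψ]
  have h2 : F.comp F' = AlgHom.id A _ := by
    refine SymmetricAlgebra.algHom_ext (LinearMap.ext fun m => ?_)
    obtain ⟨a, rfl⟩ := φ.surjective m
    have : φ a = a • e' := rfl
    simp [F, F', this, hψ]
  have hF : Function.Bijective F :=
    ⟨Function.HasLeftInverse.injective ⟨F', fun x => AlgHom.congr_fun h1 x⟩,
      Function.HasRightInverse.surjective ⟨F', fun x => AlgHom.congr_fun h2 x⟩⟩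
  let G := (symG hM).g ⟨W, hW⟩
  have hG : ∀ p, G (evalAt (totπ hM) (coordOf hM e) h p) = F p := by
    refine RingHom.congr_fun (Polynomial.ringHom_ext (f := G.toRingHom.comp (evalAt (totπ hM) (coordOf hM e) h))
      (g := F.toRingHom) (fun c => ?_) ?_)
    · refine (congrArg G (eval₂_C _ _)).trans ?_
      exact ((symG hM).gstr ⟨W, hW⟩ c).trans (Polynomial.aeval_C _ _).symm
    · refine (congrArg G (eval₂_X _ _)).trans ?_
      rw [coordOf_res]
      exact (symG_inclLin hM ⟨W, hW⟩ e').trans (Polynomial.aeval_X _).symm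
  have : (evalAt (totπ hM) (coordOf hM e) h : A[X] → _) = G.symm ∘ F := by
    funext p
    exact (G.eq_symm_apply).2 (hG p)
  rw [this]
  exact G.symm.bijective.comp hF

/-- Two frames give functions differing by a unit of the base. -/
theorem exists_unit_coordOf {U U' : Y.Opens} {e : Γ(M, U)} {e' : Γ(M, U')} (he : IsFrame M U e)
    (he' : IsFrame M U' e') : ∃ c : Γ(Y, U ⊓ U'), IsUnit c ∧
      res M inf_le_right e' = c • res M inf_le_left e := by
  have h1 := he.res (inf_le_left : U ⊓ U' ≤ U)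
  obtain ⟨c, hc⟩ := (h1 _ le_rfl).2 (res M inf_le_right e')
  dsimp only at hc
  rw [Amp73.res_self] at hc
  refine ⟨c, (Amp73.isFrame_smul_iff h1 c).1 ?_, hc.symm⟩
  rw [hc]
  exact he'.res _

/-- A section of a power as a function on the total space, in every frame `c · y ^ n`. -/
theorem exists_secFn (n : ℕ) (s : Coh.structureModule Y ⟶ CohB1.tensorPow M n) :
    ∃ f : Γ(tot hM, ⊤),
      (∀ (U : Y.Opens) (e : Γ(M, U)), IsFrame M U e → ∃ c : Γ(Y, U),
        (tot hM).presheaf.map (homOfLE le_top).op f = (totπ hM).app U c * coordOf hM e ^ n) ∧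
      (totπ hM) '' ((tot hM).basicOpen f : Set (tot hM)) = (CohB1.genLocus _ s : Set Y) := by
  let I := Σ U : Y.Opens, {e : Γ(M, U) // IsFrame M U e}
  choose c hc using fun i : I => Amp73.exists_coord s (Amp73.isFrame_epow i.2.2 n)
  let sec : ∀ i : I, Γ(tot hM, totπ hM ⁻¹ᵁ i.1) := fun i => (totπ hM).app i.1 (c i) * coordOf hM i.2.1 ^ n
  have hcov : (⊤ : (tot hM).Opens) ≤ ⨆ i : I, totπ hM ⁻¹ᵁ i.1 := fun v _ => by
    obtain ⟨W, hvW, -, e, he⟩ := Mero90.exists_affine_frame hM (totπ hM v) ⊤ trivial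
    exact Opens.mem_iSup.mpr ⟨⟨W.1, e, he⟩, hvW⟩
  have hcomp : TopCat.Presheaf.IsCompatible (tot hM).presheaf (fun i : I => totπ hM ⁻¹ᵁ i.1) sec := by
    intro i i'
    obtain ⟨d, hd, hde⟩ := exists_unit_coordOf i.2.2 i'.2.2
    have hcc : fres (inf_le_left : i.1 ⊓ i'.1 ≤ i.1) (c i) = fres inf_le_right (c i') * d ^ n := by
      have h1 := congrArg (res _ (inf_le_left : i.1 ⊓ i'.1 ≤ i.1)) (hc i)
      have h2 := congrArg (res _ (inf_le_right : i.1 ⊓ i'.1 ≤ i'.1)) (hc i')
      rw [res_smul, res_val, Amp73.res_epow] at h1 h2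
      rw [hde, Amp73.epow_smul, smul_smul, ← h1] at h2
      have hf := Amp73.isFrame_epow (i.2.2.res (inf_le_left : i.1 ⊓ i'.1 ≤ i.1)) n
      refine ((hf _ le_rfl).1 ?_).symm
      dsimp only
      rw [Amp73.res_self]
      exact h2
    change (tot hM).presheaf.map (homOfLE ((totπ hM).preimage_mono inf_le_left)).op (sec i) =
      (tot hM).presheaf.map (homOfLE ((totπ hM).preimage_mono inf_le_right)).op (sec i')
    simp only [sec]
    rw [map_mul, map_mul, map_pow, map_pow]
    erw [app_map (totπ hM) (inf_le_left : i.1 ⊓ i'.1 ≤ i.1), app_map (totπ hM) (inf_le_right : i.1 ⊓ i'.1 ≤ i'.1),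
      coordOf_res hM (inf_le_left : i.1 ⊓ i'.1 ≤ i.1), coordOf_res hM (inf_le_right : i.1 ⊓ i'.1 ≤ i'.1)]
    rw [hde, coordOf_smul, mul_pow, ← mul_assoc, ← map_pow, ← map_mul]
    exact congrArg (fun z => (totπ hM).app _ z * _) hcc
  obtain ⟨f, hf, -⟩ := (tot hM).sheaf.existsUnique_gluing' (fun i : I => totπ hM ⁻¹ᵁ i.1) ⊤
    (fun i => homOfLE le_top) hcov sec hcomp
  have hf' : ∀ i : I, (tot hM).presheaf.map (homOfLE le_top).op f = sec i := hf
  refine ⟨f, fun U e he => ⟨c ⟨U, e, he⟩, hf' ⟨U, e, he⟩⟩, ?_⟩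
  have hloc : ∀ i : I, (tot hM).basicOpen f ⊓ totπ hM ⁻¹ᵁ i.1 =
      totπ hM ⁻¹ᵁ Y.basicOpen (c i) ⊓ (tot hM).basicOpen (coordOf hM i.2.1 ^ n) := by
    intro i
    rw [(totπ hM).preimage_basicOpen, ← Scheme.basicOpen_mul]
    refine Eq.trans ?_ (congrArg (tot hM).basicOpen (hf' i))
    rw [Scheme.basicOpen_res, inf_comm]
  ext y
  obtain ⟨W, hyW, -, e, he⟩ := Mero90.exists_affine_frame hM y ⊤ trivial
  have hgen : CohB1.genLocus _ s ⊓ W.1 = Y.basicOpen (c ⟨W.1, e, he⟩) :=
    Amp73.genLocus_inf_eq_basicOpen s (Amp73.isFrame_epow he n) (hc ⟨W.1, e, he⟩)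
  constructor
  · rintro ⟨v, hv, rfl⟩
    have h1 : v ∈ totπ hM ⁻¹ᵁ Y.basicOpen (c ⟨W.1, e, he⟩) := ((hloc ⟨W.1, e, he⟩).le ⟨hv, hyW⟩).1
    exact (hgen.ge h1).1
  · intro hy
    obtain ⟨v, hv, hve⟩ := exists_point (totπ hM) (coordOf hM e)
      (fun W' hW' h => bijective_evalAt_coordOf hM he hW' h) y hyW
    have hvW : totπ hM v ∈ W.1 := hv.symm ▸ hyW
    refine ⟨v, ((hloc ⟨W.1, e, he⟩).ge ⟨?_, ?_⟩).1, hv⟩
    · have h1 : totπ hM v ∈ Y.basicOpen (c ⟨W.1, e, he⟩) := hv.symm ▸ hgen.le ⟨hy, hyW⟩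
      exact h1
    · refine ((tot hM).mem_basicOpen (coordOf hM e ^ n) v hvW).2 ?_
      rw [map_pow]
      exact (((tot hM).mem_basicOpen (coordOf hM e) v hvW).1 hve).pow n

end Groth.Agent.GIT36.LineBundle
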