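import Groth.Agent.GIT36.LineBundle.OfModule

/-!
The linearised bundle pulled back from a line bundle on the target of an invariant morphism.
-/

set_option autoImplicit false
set_option backward.isDefEq.respectTransparency.types false
set_option linter.style.haveILetI false

universe u

open CategoryTheory CategoryTheory.Limits MonoidalCategory CartesianMonoidalCategory MonObj AlgebraicGeometry
  Opposite TopologicalSpace
open Groth.Agent.Var76.LineBundle

noncomputable section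

namespace Groth.Agent.GIT36.LineBundle

variable {S : Scheme.{u}} {G X Y : Over S} [GrpObj G] {a : AlgGrp.Action G X} (φ : X ⟶ Y)
  {M : Y.left.Modules} (hM : PicF.IsInvertible M)

/-- The pulled back total space. -/
def pullTot : Over S := Over.mk (pullback.fst φ.left (totπ hM) ≫ X.hom)

/-- Its projection to `X`. -/
def pullπ : pullTot φ hM ⟶ X := Over.homMk (pullback.fst φ.left (totπ hM)) rfl

/-- Its projection to the total space on `Y`. -/
def pullPr : (pullTot φ hM).left ⟶ tot hM := pullback.snd φ.left (totπ hM)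

theorem pull_isPullback : IsPullback (pullPr φ hM) (pullπ φ hM).left (totπ hM) φ.left :=
  (IsPullback.of_hasPullback φ.left (totπ hM)).flip

theorem pullPr_totπ : pullPr φ hM ≫ totπ hM = (pullπ φ hM).left ≫ φ.left := (pull_isPullback φ hM).w

instance : IsAffineHom (pullπ φ hM).left :=
  MorphismProperty.of_isPullback (pull_isPullback φ hM) (inferInstanceAs (IsAffineHom (totπ hM)))

variable {φ}

theorem appLE_congr_apply {V W : Scheme.{u}} {f g : V ⟶ W} (h : f = g) {U : W.Opens} {O : V.Opens}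
    (e : O ≤ f ⁻¹ᵁ U) (e' : O ≤ g ⁻¹ᵁ U) (c : Γ(W, U)) : f.appLE U O e c = g.appLE U O e' c := by
  subst h; rfl

theorem le_pullPr {U₀ : Y.left.Opens} {U : X.left.Opens} (h : U ≤ φ.left ⁻¹ᵁ U₀) :
    (pullπ φ hM).left ⁻¹ᵁ U ≤ pullPr φ hM ⁻¹ᵁ (totπ hM ⁻¹ᵁ U₀) := by
  rw [← Scheme.Hom.comp_preimage, pullPr_totπ, Scheme.Hom.comp_preimage]
  exact (pullπ φ hM).left.preimage_mono h

/-- Functions pulled back to the pulled back total space. -/
def pullFn {U₀ : Y.left.Opens} {U : X.left.Opens} (h : U ≤ φ.left ⁻¹ᵁ U₀) (g : Γ(tot hM, totπ hM ⁻¹ᵁ U₀)) :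
    Γ((pullTot φ hM).left, (pullπ φ hM).left ⁻¹ᵁ U) :=
  (pullPr φ hM).appLE (totπ hM ⁻¹ᵁ U₀) ((pullπ φ hM).left ⁻¹ᵁ U) (le_pullPr hM h) g

theorem pullFn_res {U₀ W₀ : Y.left.Opens} {U W : X.left.Opens} (h : U ≤ φ.left ⁻¹ᵁ U₀)
    (h' : W ≤ φ.left ⁻¹ᵁ W₀) (hU : W ≤ U) (h₀ : W₀ ≤ U₀) (g : Γ(tot hM, totπ hM ⁻¹ᵁ U₀)) :
    GLinSh.res (pullπ φ hM) hU (pullFn hM h g) =
      pullFn hM h' ((tot hM).presheaf.map (homOfLE ((totπ hM).preimage_mono h₀)).op g) := by
  simp only [pullFn, GLinSh.res, ← CommRingCat.comp_apply, Scheme.Hom.appLE_map, Scheme.Hom.map_appLE]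

theorem pullFn_app {U₀ : Y.left.Opens} {U : X.left.Opens} (h : U ≤ φ.left ⁻¹ᵁ U₀) (c : Γ(Y.left, U₀)) :
    pullFn hM h ((totπ hM).app U₀ c) = (pullπ φ hM).left.app U (φ.left.appLE U₀ U h c) := by
  simp only [pullFn, ← CommRingCat.comp_apply, Scheme.Hom.app_eq_appLE, Scheme.Hom.appLE_comp_appLE]
  exact appLE_congr_apply (pullPr_totπ φ hM) _ _ c

variable (φ) in
/-- The pulled back coordinates. -/
def pullChart (U : X.left.Opens) : Set Γ((pullTot φ hM).left, (pullπ φ hM).left ⁻¹ᵁ U) :=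
  {y | ∃ (U₀ : Y.left.Opens) (e : Γ(M, U₀)) (_ : IsFrame M U₀ e) (h : U ≤ φ.left ⁻¹ᵁ U₀),
    y = pullFn hM h (coordOf hM e)}

variable (φ) in
/-- The pulled back atlas. -/
def pullAtlas : GLinSh.LinAtlas (pullπ φ hM) where
  affine := inferInstance
  chart := pullChart φ hM
  cover x := by
    obtain ⟨W, hxW, -, e, he⟩ := Mero90.exists_affine_frame hM (φ.left x) ⊤ trivial
    exact ⟨φ.left ⁻¹ᵁ W.1, hxW, _, W.1, e, he, le_rfl, rfl⟩
  coord := by
    rintro U y ⟨U₀, e, he, h, rfl⟩ W hW hWU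
    exact bijective_evalAt_baseChange (pull_isPullback φ hM) (coordOf hM e)
      (fun W' hW' h' => bijective_evalAt_coordOf hM he hW' h') h (le_pullPr hM h) hW hWU
  linear := by
    rintro U U' y y' ⟨U₀, e, he, h, rfl⟩ ⟨U₀', e', he', h', rfl⟩
    obtain ⟨c, hc, hce⟩ := exists_unit_coordOf he he'
    have hh : U ⊓ U' ≤ φ.left ⁻¹ᵁ (U₀ ⊓ U₀') := inf_le_inf h h'
    refine ⟨φ.left.appLE (U₀ ⊓ U₀') (U ⊓ U') hh c, hc.map (φ.left.appLE (U₀ ⊓ U₀') (U ⊓ U') hh).hom, ?_⟩
    rw [pullFn_res hM h' hh inf_le_right (inf_le_right : U₀ ⊓ U₀' ≤ U₀'), pullFn_res hM h hh inf_le_left (inf_le_left : U₀ ⊓ U₀' ≤ U₀),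
      ← pullFn_app hM hh, coordOf_res hM (inf_le_right : U₀ ⊓ U₀' ≤ U₀'),
      coordOf_res hM (inf_le_left : U₀ ⊓ U₀' ≤ U₀), hce, coordOf_smul]
    exact map_mul ((pullPr φ hM).appLE _ _ (le_pullPr hM hh)).hom _ _

theorem act_cond (hφ : GIT.IsInvariant a φ) :
    ((G ◁ pullπ φ hM) ≫ a.act).left ≫ φ.left =
      ((CartesianMonoidalCategory.snd G (pullTot φ hM)).left ≫ pullPr φ hM) ≫ totπ hM := by
  rw [Category.assoc, pullPr_totπ, Over.comp_left, Category.assoc, hφ.left, ← Category.assoc,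
    ← Over.comp_left, whiskerLeft_snd, Over.comp_left, Category.assoc]

variable (φ) in
/-- The lifted action. -/
def pullAct (hφ : GIT.IsInvariant a φ) : G ⊗ pullTot φ hM ⟶ pullTot φ hM :=
  Over.homMk (pullback.lift ((G ◁ pullπ φ hM) ≫ a.act).left
    ((CartesianMonoidalCategory.snd G (pullTot φ hM)).left ≫ pullPr φ hM) (act_cond hM hφ)) (by
      show pullback.lift _ _ _ ≫ pullback.fst φ.left (totπ hM) ≫ X.hom = _
      rw [pullback.lift_fst_assoc]
      exact Over.w _)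

theorem pullAct_π (hφ : GIT.IsInvariant a φ) :
    pullAct φ hM hφ ≫ pullπ φ hM = (G ◁ pullπ φ hM) ≫ a.act :=
  Over.OverMorphism.ext (pullback.lift_fst _ _ _)

theorem pullAct_pr (hφ : GIT.IsInvariant a φ) :
    (pullAct φ hM hφ).left ≫ pullPr φ hM =
      (CartesianMonoidalCategory.snd G (pullTot φ hM)).left ≫ pullPr φ hM :=
  pullback.lift_snd _ _ _

theorem pullTot_hom_ext {T : Over S} {f g : T ⟶ pullTot φ hM} (h₁ : f ≫ pullπ φ hM = g ≫ pullπ φ hM)
    (h₂ : f.left ≫ pullPr φ hM = g.left ≫ pullPr φ hM) : f = g :=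
  Over.OverMorphism.ext (pullback.hom_ext (congrArg CommaMorphism.left h₁) h₂)

variable (φ) in
/-- The lifted action, as an action. -/
def pullLift (hφ : GIT.IsInvariant a φ) : AlgGrp.Action G (pullTot φ hM) where
  act := pullAct φ hM hφ
  one_act := by
    refine pullTot_hom_ext hM ?_ ?_
    · rw [Category.assoc, pullAct_π, ← whisker_exchange_assoc, a.one_act, leftUnitor_hom, leftUnitor_hom,
        whiskerLeft_snd]
    · rw [Over.comp_left, Category.assoc, pullAct_pr, ← Category.assoc, ← Over.comp_left, whiskerRight_snd,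
        leftUnitor_hom]
  mul_act := by
    refine pullTot_hom_ext hM ?_ ?_
    · rw [Category.assoc, pullAct_π, ← whisker_exchange_assoc, a.mul_act]
      simp only [Category.assoc]
      rw [pullAct_π, ← MonoidalCategory.whiskerLeft_comp_assoc, pullAct_π,
        MonoidalCategory.whiskerLeft_comp_assoc, associator_naturality_right_assoc]
    · have h1 : ∀ {T : Over S} (f : T ⟶ G ⊗ pullTot φ hM),
          (f ≫ pullAct φ hM hφ).left ≫ pullPr φ hM =
            (f ≫ CartesianMonoidalCategory.snd G (pullTot φ hM)).left ≫ pullPr φ hM := fun f => by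
        rw [Over.comp_left, Category.assoc, pullAct_pr, Over.comp_left, Category.assoc]
      rw [h1, ← Category.assoc, h1, Category.assoc, whiskerLeft_snd, ← Category.assoc, h1, whiskerRight_snd,
        Category.assoc, associator_hom_snd_snd]

theorem pullLift_linear (hφ : GIT.IsInvariant a φ) :
    GLinSh.IsLinearLift a (pullπ φ hM) (pullLift φ hM hφ) (pullChart φ hM) (pullAct_π hM hφ) := by
  rintro U U' y y' ⟨U₀, e, he, h, rfl⟩ ⟨U₀', e', he', h', rfl⟩
  obtain ⟨c, -, hce⟩ := exists_unit_coordOf he he'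
  set O := GLinSh.liftOpen a (pullπ φ hM) U U'
  set Q := a.act.left ⁻¹ᵁ U' ⊓ (CartesianMonoidalCategory.snd G X).left ⁻¹ᵁ U
  have hQ : Q ≤ ((CartesianMonoidalCategory.snd G X).left ≫ φ.left) ⁻¹ᵁ (U₀ ⊓ U₀') := by
    intro z hz
    refine ⟨h hz.2, ?_⟩
    have h1 : φ.left (a.act.left z) ∈ U₀' := h' hz.1
    rw [← Scheme.Hom.comp_apply, hφ.left] at h1
    exact h1
  refine ⟨((CartesianMonoidalCategory.snd G X).left ≫ φ.left).appLE (U₀ ⊓ U₀') Q hQ c, ?_⟩
  set q := (CartesianMonoidalCategory.snd G (pullTot φ hM)).left ≫ pullPr φ hM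
  have hqπ : q ≫ totπ hM =
      (G ◁ pullπ φ hM).left ≫ (CartesianMonoidalCategory.snd G X).left ≫ φ.left := by
    rw [Category.assoc, pullPr_totπ, ← Category.assoc, ← Category.assoc]
    exact congrArg (fun F => F.left ≫ φ.left) (whiskerLeft_snd G (pullπ φ hM)).symm
  have hO : O ≤ q ⁻¹ᵁ (totπ hM ⁻¹ᵁ (U₀ ⊓ U₀')) := by
    rw [← Scheme.Hom.comp_preimage, hqπ, Scheme.Hom.comp_preimage]
    exact (GLinSh.liftOpen_le_base a (pullπ φ hM)).trans ((G ◁ pullπ φ hM).left.preimage_mono hQ)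
  have hO1 : O ≤ q ⁻¹ᵁ (totπ hM ⁻¹ᵁ U₀) := hO.trans (q.preimage_mono ((totπ hM).preimage_mono inf_le_left))
  have hO2 : O ≤ q ⁻¹ᵁ (totπ hM ⁻¹ᵁ U₀') := hO.trans (q.preimage_mono ((totπ hM).preimage_mono inf_le_right))
  have eL : (pullLift φ hM hφ).act.left.appLE ((pullπ φ hM).left ⁻¹ᵁ U') O
      (GLinSh.liftOpen_le_act a _ _ (pullAct_π hM hφ)) (pullFn hM h' (coordOf hM e')) =
        q.appLE (totπ hM ⁻¹ᵁ (U₀ ⊓ U₀')) O hO (coordOf hM (res M inf_le_right e')) := by
    rw [pullFn, ← coordOf_res]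
    simp only [← CommRingCat.comp_apply, Scheme.Hom.appLE_comp_appLE, Scheme.Hom.map_appLE]
    exact appLE_congr_apply (pullAct_pr hM hφ) _ _ _
  have eR : (CartesianMonoidalCategory.snd G (pullTot φ hM)).left.appLE ((pullπ φ hM).left ⁻¹ᵁ U) O
      (GLinSh.liftOpen_le_snd a _) (pullFn hM h (coordOf hM e)) =
        q.appLE (totπ hM ⁻¹ᵁ (U₀ ⊓ U₀')) O hO (coordOf hM (res M inf_le_left e)) := by
    rw [pullFn, ← coordOf_res]
    simp only [← CommRingCat.comp_apply, Scheme.Hom.appLE_comp_appLE, Scheme.Hom.map_appLE]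
    rfl
  refine eL.trans ?_
  rw [eR, hce, coordOf_smul, map_mul]
  congr 1
  simp only [← CommRingCat.comp_apply, Scheme.Hom.app_eq_appLE, Scheme.Hom.appLE_comp_appLE]
  refine (appLE_congr_apply hqπ _ ((GLinSh.liftOpen_le_base a (pullπ φ hM)).trans
    ((G ◁ pullπ φ hM).left.preimage_mono hQ)) c).trans ?_
  exact (congr($(Scheme.Hom.appLE_comp_appLE (G ◁ pullπ φ hM).left
    ((CartesianMonoidalCategory.snd G X).left ≫ φ.left) (U₀ ⊓ U₀') Q O hQ
    (GLinSh.liftOpen_le_base a (pullπ φ hM))) c)).symm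

variable (φ) in
/-- The linearised bundle pulled back from `M`. -/
def pullBun (hφ : GIT.IsInvariant a φ) : GLinSh.LinBun G a where
  V := pullTot φ hM
  π := pullπ φ hM
  atlas := pullAtlas φ hM
  lift := pullLift φ hM hφ
  lift_π := pullAct_π hM hφ
  lift_linear := pullLift_linear hM hφ

/-- Sections of powers of `M` give invariant sections, with non-vanishing locus the preimage of the locus generated. -/
theorem exists_invSection (hφ : GIT.IsInvariant a φ) (n : ℕ)
    (s : Coh.structureModule Y.left ⟶ CohB1.tensorPow M n) :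
    ∃ f, (pullBun φ hM hφ).IsInvSection n f ∧
      GLinSh.nonvanishing (pullBun φ hM hφ).π f = (φ.left ⁻¹ᵁ CohB1.genLocus _ s : Set X.left) := by
  obtain ⟨f, hw, himg⟩ := exists_secFn hM n s
  refine ⟨(pullPr φ hM).appTop f, ⟨?_, ?_⟩, ?_⟩
  · rintro U y ⟨U₀, e, he, h, rfl⟩
    obtain ⟨c, hc⟩ := hw U₀ e he
    refine ⟨φ.left.appLE U₀ U h c, ?_⟩
    show GLinSh.resTop (pullπ φ hM) U _ = (pullπ φ hM).left.app U _ * _
    rw [← pullFn_app hM h]
    refine Eq.trans ?_ ((congrArg (pullFn hM h) hc).trans ?_)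
    · change ((pullPr φ hM).appTop ≫ (pullTot φ hM).left.presheaf.map _) f = _
      simp only [pullFn, ← CommRingCat.comp_apply, Scheme.Hom.appTop, Scheme.Hom.app_eq_appLE,
        Scheme.Hom.appLE_map, Scheme.Hom.map_appLE]
      exact congr($((pullPr φ hM).appLE_map _ _) f)
    · simp only [pullFn, map_mul, map_pow]
      rfl
  · change (pullAct φ hM hφ).left.appTop _ = (CartesianMonoidalCategory.snd G (pullTot φ hM)).left.appTop _
    simp only [← CommRingCat.comp_apply, ← Scheme.Hom.comp_appTop]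
    rw [pullAct_pr]
  · show (pullπ φ hM).left '' ((pullTot φ hM).left.basicOpen ((pullPr φ hM).appTop f) : Set (pullTot φ hM).left) = _
    rw [← Scheme.preimage_basicOpen_top]
    ext x
    constructor
    · rintro ⟨v, hv, rfl⟩
      have h1 : totπ hM (pullPr φ hM v) ∈ (CohB1.genLocus _ s : Set Y.left) := himg.le ⟨_, hv, rfl⟩
      rw [← Scheme.Hom.comp_apply, pullPr_totπ] at h1
      exact h1
    · intro hx
      obtain ⟨w, hw, hwx⟩ := himg.ge hx
      obtain ⟨v, hv1, hv2⟩ := Scheme.Pullback.exists_preimage_pullback x w hwx.symm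
      exact ⟨v, show pullPr φ hM v ∈ (tot hM).basicOpen f from hv2.symm ▸ hw, hv1⟩

end Groth.Agent.GIT36.LineBundle
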